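import Groth.Agent.SiteBase.Top
import Groth.Agent.SiteBase.LerayDegen
import Groth.Agent.S0494
import Groth.Agent.QCoh.RpushAbGod
import Groth.Agent.QCoh.RpushStalk
import Groth.Agent.QCoh.RpushExchange2
import Groth.Agent.SiteBase.GodementCx

/-! Sheaves vanishing off finitely many closed points, and degeneration of Leray. -/

set_option autoImplicit false
set_option backward.isDefEq.respectTransparency false
set_option linter.style.haveILetI false

universe u

open CategoryTheory CategoryTheory.Limits TopologicalSpace Opposite AlgebraicGeometry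

namespace Groth.Agent.AVVanish

section Top

variable {X : TopCat.{u}} (F : CohTop.Ab X) {Z : Set X}

theorem subsingleton_of_disjoint (hloc : ∀ y ∉ Z, ∃ U : Opens X, y ∈ U ∧ ∀ V ≤ U, Subsingleton (F.obj.obj (op V)))
    {V : Opens X} (hV : ∀ y ∈ V, y ∉ Z) : Subsingleton (F.obj.obj (op V)) := by
  choose U hyU hU using fun y : V => hloc y.1 (hV _ y.2)
  refine ⟨fun s t => TopCat.Sheaf.eq_of_locally_eq' F (fun y : V => U y ⊓ V) V (fun y => homOfLE inf_le_right)
    (fun y hy => Opens.mem_iSup.2 ⟨⟨y, hy⟩, hyU _, hy⟩) s t fun y => ?_⟩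
  haveI := hU y (U y ⊓ V) inf_le_left
  exact Subsingleton.elim _ _

theorem surjective_res (hfin : Z.Finite) (hcl : ∀ z ∈ Z, IsClosed ({z} : Set X))
    (hloc : ∀ y ∉ Z, ∃ U : Opens X, y ∈ U ∧ ∀ V ≤ U, Subsingleton (F.obj.obj (op V))) (U : Opens X) :
    Function.Surjective (F.obj.map (homOfLE (le_top : U ≤ ⊤)).op) := by
  intro s
  have hc : IsClosed (Z ∩ (U : Set X)) := by
    rw [← Set.biUnion_of_singleton (Z ∩ (U : Set X))]
    exact (hfin.subset Set.inter_subset_left).isClosed_biUnion fun z hz => hcl z hz.1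
  let W : Opens X := ⟨(Z ∩ (U : Set X))ᶜ, hc.isOpen_compl⟩
  haveI : Subsingleton (F.obj.obj (op (U ⊓ W))) :=
    subsingleton_of_disjoint F hloc fun y hy hyZ => hy.2 ⟨hyZ, hy.1⟩
  let V : Bool → Opens X := fun b => bif b then U else W
  let r : (b : Bool) → F.obj.obj (op (V b)) := fun b => match b with
    | true => s
    | false => 0
  have hcov : (⊤ : Opens X) ≤ ⨆ b, V b := fun y _ => by
    by_cases h : y ∈ U
    · exact Opens.mem_iSup.2 ⟨true, h⟩
    · exact Opens.mem_iSup.2 ⟨false, fun h' => h h'.2⟩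
  obtain ⟨g, hg, -⟩ := TopCat.Sheaf.existsUnique_gluing' F V ⊤ (fun b => homOfLE le_top) hcov r (by
    rintro (_ | _) (_ | _)
    · rfl
    · haveI : Subsingleton (F.obj.obj (op (W ⊓ U))) := by rw [inf_comm]; infer_instance
      exact Subsingleton.elim (α := F.obj.obj (op (W ⊓ U))) _ _
    · exact Subsingleton.elim (α := F.obj.obj (op (U ⊓ W))) _ _
    · rfl)
  exact ⟨g, hg true⟩

theorem isFlasque_of_finite (hfin : Z.Finite) (hcl : ∀ z ∈ Z, IsClosed ({z} : Set X))
    (hloc : ∀ y ∉ Z, ∃ U : Opens X, y ∈ U ∧ ∀ V ≤ U, Subsingleton (F.obj.obj (op V))) :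
    TopCat.Sheaf.IsFlasque F where
  epi {U V} i := by
    refine (AddCommGrpCat.epi_iff_surjective _).2 fun s => ?_
    obtain ⟨g, hg⟩ := surjective_res F hfin hcl hloc V.unop s
    refine ⟨F.obj.map (homOfLE (le_top : U.unop ≤ ⊤)).op g, ?_⟩
    rw [← ConcreteCategory.comp_apply, ← F.obj.map_comp]
    exact hg

theorem isZero_of_subsingleton (h : ∀ U : Opens X, Subsingleton (F.obj.obj (op U))) : IsZero F := by
  rw [IsZero.iff_id_eq_zero]
  ext U s
  exact @Subsingleton.elim _ (h U.unop) _ _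

end Top

section Sch

variable {X Y : Scheme.{u}} [HasInjectiveResolutions X.Modules] (f : X ⟶ Y) [QuasiCompact f] [QuasiSeparated f]

theorem nonempty_toAb_Rpush (M : X.Modules) (q : ℕ) :
    Nonempty ((Coh.RpushAb f q).obj (Coh.toAb M) ≅ Coh.toAb ((Coh.Rpush f q).obj M)) := by
  cases q with
  | zero =>
    haveI := SpObjSS.enoughInjectives_of_hasInjectiveResolutions (C := X.Modules)
    haveI := QCoh.preservesFiniteLimits_push f
    obtain ⟨e⟩ := QCoh.nonempty_RpushAb_zero_iso f M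
    exact ⟨e ≪≫ (QCoh.toAbFunctor Y).mapIso ((Scheme.Modules.pushforward f).rightDerivedZeroIsoSelf.app M).symm⟩
  | succ q =>
    obtain ⟨e⟩ := QCoh.nonempty_RpushAb_iso f M q
    obtain ⟨e'⟩ := QCoh.nonempty_Rpush_iso f M q
    exact ⟨e ≪≫ (QCoh.toAbFunctor Y).mapIso e'.symm⟩

theorem isZero_toAb {M : Y.Modules} (h : IsZero M) : IsZero (Coh.toAb M) :=
  Functor.map_isZero (QCoh.toAbFunctor Y) h

/-- vanishing of all higher direct images kills the cohomology -/
theorem subsingleton_HH_of_all_isZero (M : X.Modules) (h : ∀ q, IsZero ((Coh.Rpush f q).obj M)) (n : ℕ) :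
    Subsingleton (Coh.HH X M n) := by
  have h' : ∀ q, IsZero ((CohTop.Rpush f.base q).obj (Coh.toAb M)) := fun q =>
    (isZero_toAb (h q)).of_iso (nonempty_toAb_Rpush f M q).some
  obtain ⟨e⟩ := S0494.result f.base (Coh.toAb M) (fun p q => by
    haveI := SiteBase.isFlasque_of_isZero _ (h' q)
    exact SiteBase.subsingleton_H_of_isFlasque _ p) n
  haveI : Subsingleton (((CohTop.Rpush f.base n).obj (Coh.toAb M)).obj.obj (op ⊤)) :=
    subsingleton_of_forall_eq 0 fun z => congr(($((IsZero.iff_id_eq_zero _).1 (h' n))).hom.app (op ⊤) z)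
  exact e.toEquiv.subsingleton

/-- higher direct images supported in finitely many points vanish when the cohomology does -/
theorem isZero_Rpush_of_finite (M : X.Modules) {Z : Set Y} (hfin : Z.Finite)
    (hcl : ∀ z ∈ Z, IsClosed ({z} : Set Y))
    (hloc : ∀ q, ∀ y ∉ Z, ∃ U : Y.Opens, y ∈ U ∧ IsZero (((Coh.Rpush f q).obj M).restrict U.ι))
    (hH : ∀ n, Subsingleton (Coh.HH X M n)) (q : ℕ) : IsZero ((Coh.Rpush f q).obj M) := by
  have hloc' : ∀ q, ∀ y ∉ Z, ∃ U : Opens Y, y ∈ U ∧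
      ∀ V ≤ U, Subsingleton (((CohTop.Rpush f.base q).obj (Coh.toAb M)).obj.obj (op V)) := by
    intro q y hy
    obtain ⟨U, hyU, hU⟩ := hloc q y hy
    obtain ⟨e⟩ := nonempty_toAb_Rpush f M q
    refine ⟨U, hyU, fun V hV => ?_⟩
    have hs : Subsingleton Γ((Coh.Rpush f q).obj M, V) := by
      have := QCoh.subsingleton_Γ_of_isZero hU (U.ι ⁻¹ᵁ V)
      have hVeq : U.ι ''ᵁ (U.ι ⁻¹ᵁ V) = V := by
        rw [Scheme.Hom.image_preimage_eq_opensRange_inf, Scheme.Opens.opensRange_ι]
        exact inf_eq_right.2 hV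
      rw [← hVeq]
      exact this
    exact @Equiv.subsingleton _ _ (((sheafToPresheaf _ _).mapIso e).app (op V)).addCommGroupIsoToAddEquiv.toEquiv hs
  haveI hfl : ∀ q, TopCat.Sheaf.IsFlasque ((CohTop.Rpush f.base q).obj (Coh.toAb M)) := fun q =>
    isFlasque_of_finite _ hfin hcl (hloc' q)
  obtain ⟨e⟩ := S0494.result f.base (Coh.toAb M) (fun p q => SiteBase.subsingleton_H_of_isFlasque _ p) q
  haveI := hH q
  haveI : Subsingleton (((CohTop.Rpush f.base q).obj (Coh.toAb M)).obj.obj (op ⊤)) := e.symm.toEquiv.subsingleton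
  obtain ⟨e'⟩ := nonempty_toAb_Rpush f M q
  rw [IsZero.iff_id_eq_zero]
  refine Scheme.Modules.hom_ext _ _ fun V => ?_
  haveI : Subsingleton (((CohTop.Rpush f.base q).obj (Coh.toAb M)).obj.obj (op V)) :=
    (surjective_res _ hfin hcl (hloc' q) V).subsingleton
  haveI : Subsingleton Γ((Coh.Rpush f q).obj M, V) :=
    @Equiv.subsingleton _ _ (((sheafToPresheaf _ _).mapIso e').app (op V)).addCommGroupIsoToAddEquiv.symm.toEquiv this
  ext z
  exact Subsingleton.elim _ _

end Sch

end Groth.Agent.AVVanish
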