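import Groth.Agent.AVVanish.Triv
import Groth.Agent.QCoh.RpushExchange2
import Groth.Agent.AmpleVan.LiftFibre
import Groth.Agent.PushAmp.RelFlatRep

/-! Fibres over rational points. -/

set_option autoImplicit false
set_option backward.isDefEq.respectTransparency false
set_option linter.style.haveILetI false

universe u

open CategoryTheory CategoryTheory.Limits AlgebraicGeometry MonoidalCategory CartesianMonoidalCategory
open scoped MonObj

attribute [-instance] CategoryTheory.catToReflQuiver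

namespace Groth.Agent.AVVanish

variable {k : Type u} [Field k]

/-- cohomology does not see isomorphisms of schemes -/
theorem subsingleton_HH_pullback_iff {X X' : Scheme.{u}} (π : X ⟶ Spec (CommRingCat.of k)) [IsProper π]
    (θ : X' ⟶ X) [IsIso θ] (F : X.Modules) (hF : Coh.IsQCoh F) (n : ℕ) :
    Subsingleton (Coh.HH X' ((Scheme.Modules.pullback θ).obj F) n) ↔ Subsingleton (Coh.HH X F n) := by
  letI : X.Over (Spec (CommRingCat.of k)) := ⟨π⟩
  letI : X'.Over (Spec (CommRingCat.of k)) := ⟨θ ≫ π⟩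
  haveI : CompactSpace X := QuasiCompact.compactSpace_of_compactSpace π
  haveI : X.IsSeparated := ⟨by
    rw [show terminal.from X = π ≫ terminal.from _ from terminal.hom_ext _ _]
    infer_instance⟩
  have hid : Spec.map (CommRingCat.ofHom (algebraMap k k)) = 𝟙 _ := by
    rw [show CommRingCat.ofHom (algebraMap k k) = 𝟙 (CommRingCat.of k) from rfl, Spec.map_id]
  have hpb : IsPullback θ (X' ↘ Spec (CommRingCat.of k)) (X ↘ Spec (CommRingCat.of k))
      (Spec.map (CommRingCat.ofHom (algebraMap k k))) := by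
    haveI : IsIso (Spec.map (CommRingCat.ofHom (algebraMap k k))) := by rw [hid]; infer_instance
    refine IsPullback.of_horiz_isIso ⟨?_⟩
    rw [hid, Category.comp_id]
    try rfl
  obtain ⟨e⟩ := QCoh.nonempty_HH_flat_bc (A := k) (B := k) θ hpb hF n
  let e' := e.toEquiv.trans (TensorProduct.lid k (Coh.HH X F n)).toEquiv
  exact ⟨fun h => @Equiv.subsingleton _ _ e'.symm h, fun h => @Equiv.subsingleton _ _ e' h⟩

/-- the fibre over a rational point -/
theorem subsingleton_fiberH_iff {X Y Z : Scheme.{u}} {f : X ⟶ Y} {σ : Z ⟶ X} {π : Z ⟶ Spec (CommRingCat.of k)}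
    {u : Spec (CommRingCat.of k) ⟶ Y} [IsProper π] (h : IsPullback σ π f u) (ρ : Y ⟶ Spec (CommRingCat.of k))
    (hu : u ≫ ρ = 𝟙 _) {N : X.Modules} (hN : Coh.IsQCoh N) (n : ℕ) :
    Subsingleton (CohIII.fiberH f N (u (IsLocalRing.closedPoint k)) n) ↔
      Subsingleton (Coh.HH Z ((Scheme.Modules.pullback σ).obj N) n) := by
  let y := u (IsLocalRing.closedPoint k)
  let gr : Spec (Y.residueField y) ⟶ Spec (CommRingCat.of k) := Y.fromSpecResidueField y ≫ ρ
  let dr : Spec (CommRingCat.of k) ⟶ Spec (Y.residueField y) :=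
    Spec.map (Scheme.descResidueField (Scheme.stalkClosedPointTo u))
  have hdr : dr ≫ Y.fromSpecResidueField y = u := Scheme.descResidueField_stalkClosedPointTo_fromSpecResidueField _ _ u
  have h1 : dr ≫ gr = 𝟙 _ := by rw [← Category.assoc, hdr, hu]
  let φ := Scheme.descResidueField (Scheme.stalkClosedPointTo u)
  let ψ : CommRingCat.of k ⟶ Y.residueField y := Spec.preimage gr
  have h2 : ψ ≫ φ = 𝟙 _ := Spec.map_injective (by
    rw [Spec.map_comp, Spec.map_id, Spec.map_preimage]
    exact h1)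
  haveI : IsIso φ := (ConcreteCategory.isIso_iff_bijective φ).2
    ⟨φ.hom.injective, fun x => ⟨ψ x, by
      rw [← ConcreteCategory.comp_apply, h2]; rfl⟩⟩
  haveI : IsIso dr := inferInstanceAs (IsIso (Spec.map φ))
  haveI : IsIso gr := by
    have : gr = inv dr := by rw [← cancel_epi dr, h1, IsIso.hom_inv_id]
    rw [this]; infer_instance
  have hgr : gr ≫ u = Y.fromSpecResidueField y := by
    have hgr' : gr ≫ dr = 𝟙 _ := by
      have : dr = inv gr := by rw [← cancel_mono gr, h1, IsIso.inv_hom_id]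
      rw [this, IsIso.hom_inv_id]
    rw [← hdr, ← Category.assoc, hgr', Category.id_comp]
  have sq : IsPullback (f.fiberι y) (f.fiberToSpecResidueField y ≫ gr) f u :=
    (IsPullback.of_hasPullback f (Y.fromSpecResidueField y)).of_iso (Iso.refl _) (Iso.refl _) (asIso gr)
      (Iso.refl _) (by simp [Scheme.Hom.fiberι]) (by simp [Scheme.Hom.fiberToSpecResidueField]) (by simp)
      (by simp [hgr])
  let θ : f.fiber y ⟶ Z := (sq.isoIsPullback _ _ h).hom
  have hθ : θ ≫ σ = f.fiberι y := sq.isoIsPullback_hom_fst _ _ h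
  let e : (Scheme.Modules.pullback (f.fiberι y)).obj N ≅
      (Scheme.Modules.pullback θ).obj ((Scheme.Modules.pullback σ).obj N) :=
    (Scheme.Modules.pullbackCongr hθ).symm.app N ≪≫ ((Scheme.Modules.pullbackComp θ σ).app N).symm
  rw [← subsingleton_HH_pullback_iff π θ _ (QCoh.isQCoh_pullback σ hN) n]
  exact ⟨QCoh.subsingleton_HH_of_iso e n, QCoh.subsingleton_HH_of_iso e.symm n⟩

/-- a vanishing pushforward and vanishing higher images force vanishing fibre cohomology -/
theorem subsingleton_fiberH_zero {X Y : Scheme.{u}} (f : X ⟶ Y) [IsProper f] [IsLocallyNoetherian Y]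
    {N : X.Modules} (hN : Coh.IsCoh N) (hfl : FlatMod.IsFlatOver f N) [HasInjectiveResolutions X.Modules]
    (hR : ∀ i, IsZero ((Coh.Rpush f i).obj N)) (y : Y) : Subsingleton (CohIII.fiberH f N y 0) := by
  have hc : ∀ i : ℕ, i ≠ 0 → Subsingleton (CohIII.fiberH f N y i) :=
    QCoh.concentrated_of_isZero_Rpush hN hfl (fun i _ => hR i) y
  obtain ⟨U, hyU, ⟨e⟩⟩ := QCoh.exists_free_of_concentrated hN hfl 0 y hc
  obtain ⟨_, ⟨V, hV, rfl⟩, hy, -⟩ :=
    Y.isBasis_affineOpens.exists_subset_of_mem_open (Set.mem_univ y) isOpen_univ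
  have hV' : IsAffineOpen V := hV
  haveI : IsNoetherianRing Γ(Y, V) := IsLocallyNoetherian.component_noetherian ⟨V, hV'⟩
  obtain ⟨P, hP⟩ := QCoh.exists_isLocalModel hN hfl hV'
  haveI := (hP.2.2.2.2.2 0 y hy).2
  refine Module.finrank_zero_iff.1 (show CohIII.fiberRank f N 0 y = 0 from ?_)
  by_contra hne
  have hz : IsZero (FlatMod.freeMod (U : Scheme.{u}) (CohIII.fiberRank f N 0 y)) :=
    ((Scheme.Modules.restrictFunctor U.ι).map_isZero (hR 0)).of_iso e.symm
  let g := Sigma.desc (fun _ : Fin (CohIII.fiberRank f N 0 y) => 𝟙 (Coh.structureModule (U : Scheme.{u})))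
  have h0 : (𝟙 (Coh.structureModule (U : Scheme.{u})) : _ ⟶ _) = 0 := by
    rw [← Sigma.ι_desc (fun _ : Fin (CohIII.fiberRank f N 0 y) => 𝟙 (Coh.structureModule (U : Scheme.{u})))
      ⟨0, Nat.pos_of_ne_zero hne⟩]
    rw [hz.eq_of_tgt (Sigma.ι _ _) 0, zero_comp]
  have h6 := congr(($h0).app ⊤ (1 : Γ((U : Scheme.{u}), ⊤)))
  haveI : Nonempty (U : Scheme.{u}) := ⟨⟨y, hyU⟩⟩
  haveI : Nonempty ((⊤ : (U : Scheme.{u}).Opens) : Scheme.{u}) := ⟨⟨⟨y, hyU⟩, trivial⟩⟩
  exact one_ne_zero (α := Γ((U : Scheme.{u}), ⊤)) h6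

end Groth.Agent.AVVanish
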