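import Groth.Agent.AVVanish.Sheaf
import Groth.Agent.H23.CubeAb
import Groth.Agent.InvX.Tensor
import Groth.Agent.QCoh.OpenSub
import Groth.Agent.QCoh.RpushModel

/-! A nonzero section of an additive class trivializes it. -/

set_option autoImplicit false
set_option backward.isDefEq.respectTransparency false
set_option linter.style.haveILetI false

universe u

open CategoryTheory CategoryTheory.Limits AlgebraicGeometry MonoidalCategory CartesianMonoidalCategory TopologicalSpace
open scoped MonObj

attribute [-instance] CategoryTheory.catToReflQuiver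

namespace Groth.Agent.AVVanish

open H23 H23.TrivBasic
open scoped Groth.Agent.H23.PicMul

variable {k : Type u} [Field k] (X : Over (Spec (CommRingCat.of k))) [GrpObj X]

/-- the class of the module pulled back by inversion is inverse -/
theorem nonempty_tensor_inv (L : X.left.Modules) (hL : PicF.IsInvertible L)
    (hΛ : Nonempty ((Scheme.Modules.pullback μ[X].left).obj L ≅
      CohB1.tensorMod ((Scheme.Modules.pullback (fst X X).left).obj L) ((Scheme.Modules.pullback (snd X X).left).obj L))) :
    Triv (CohB1.tensorMod L ((Scheme.Modules.pullback ((𝟙 X : X ⟶ X)⁻¹).left).obj L)) := by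
  have hadd : CubeAb.IsAdditive (PicF.cl L) := by
    show CubeAb.F (PicF.cl L) (fst X X * snd X X) = _
    rw [show fst X X * snd X X = μ[X] from by rw [Hom.mul_def, lift_fst_snd, Category.id_comp]]
    exact PicMul.cl_eq_iff.2 hΛ
  have h := hadd.apply (𝟙 X) ((𝟙 X)⁻¹)
  rw [mul_inv_cancel, CubeAb.F_one ⟨L, rfl, hL⟩] at h
  have hid : CubeAb.F (PicF.cl L) (𝟙 X) = PicF.cl L :=
    PicMul.cl_eq_iff.2 ⟨(Scheme.Modules.pullbackId X.left).app L⟩
  rw [hid] at h
  exact (CubeAb.cl_eq_one_iff _).1 h.symm

variable [IsProper X.hom] [GeometricallyIntegral X.hom]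

theorem isField_gamma : IsField Γ(X.left, ⊤) := by
  haveI := CubeAb.geometricallyConnected_of_integral X.hom
  exact Seesaw.isField_Γ X.hom (CubeField.bijective_appTop_of_connected X)

/-- an additive class with a nonzero section is trivial -/
theorem triv_of_sections (L : X.left.Modules) (hL : PicF.IsInvertible L)
    (hΛ : Nonempty ((Scheme.Modules.pullback μ[X].left).obj L ≅
      CohB1.tensorMod ((Scheme.Modules.pullback (fst X X).left).obj L) ((Scheme.Modules.pullback (snd X X).left).obj L)))
    (hs : ∃ s : Coh.structureModule X.left ⟶ L, s ≠ 0) : Triv L := by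
  haveI : IsIntegral X.left := GeometricallyIntegral.isIntegral_of_subsingleton X.hom
  obtain ⟨s, hs⟩ := hs
  let t : Γ(L, ⊤) := InvX.one s
  have ht : t ≠ 0 := fun h => hs (Scheme.Modules.hom_ext s 0 fun V => by
    ext r
    refine (InvX.app_eq_smul s r).trans ?_
    rw [show InvX.one s = 0 from h, map_zero, smul_zero]
    rfl)
  let ι' := ((𝟙 X : X ⟶ X)⁻¹).left
  let L' := (Scheme.Modules.pullback ι').obj L
  let t' : Γ(L', ⊤) := InvX.pullElt ι' t
  have hne : locus t ≠ ⊥ := locus_ne_bot hL ht
  have hinv : ι' ≫ ι' = 𝟙 _ := by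
    rw [← Over.comp_left, GrpObj.comp_inv, Category.comp_id, inv_inv, Over.id_left]
  have hne' : locus t' ≠ ⊥ := by
    rw [locus_pullElt hL]
    intro h
    obtain ⟨x, hx⟩ := Opens.ne_bot_iff_nonempty _ |>.1 hne
    have : ι' x ∈ ι' ⁻¹ᵁ locus t := by
      show ι' (ι' x) ∈ locus t
      rw [← Scheme.Hom.comp_apply, hinv]
      exact hx
    rw [h] at this
    exact this
  let τ : Γ(CohB1.tensorMod L L', ⊤) := InvX.tmul t t'
  have hlocus : locus τ = locus t ⊓ locus t' := by
    have := InvX.genLocus_mulHom hL (PicClLib.isInvertible_pullback ι' hL) (InvX.ofSect t) (InvX.ofSect t')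
    rwa [InvX.mulHom, InvX.one_ofSect, InvX.one_ofSect] at this
  obtain ⟨x, hx⟩ : (locus t ⊓ locus t' : X.left.Opens).1.Nonempty :=
    nonempty_preirreducible_inter (locus t).2 (locus t').2 ((Opens.ne_bot_iff_nonempty _).1 hne)
      ((Opens.ne_bot_iff_nonempty _).1 hne')
  have hτ : τ ≠ 0 := by
    intro h
    have hx' : x ∈ locus τ := hlocus ▸ hx
    obtain ⟨U, hxU, hU⟩ := mem_locus_iff.1 hx'
    haveI : Nonempty (U : Scheme.{u}) := ⟨⟨x, hxU⟩⟩
    refine zero_ne_one (α := Γ(X.left, U)) (hU.coord_unique le_rfl ?_)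
    rw [h, map_zero, map_zero, smul_zero, smul_zero]
  have hf := isFrame_of_ne_zero (nonempty_tensor_inv X L hL hΛ) (isField_gamma X) hτ
  have htop : locus t ⊓ locus t' = ⊤ := hlocus ▸ locus_eq_top_iff.2 hf
  exact triv_of_frame (locus_eq_top_iff.1 (inf_eq_top_iff.1 htop).1)

omit [GrpObj X] [GeometricallyIntegral X.hom] in
/-- vanishing higher direct image on a point gives vanishing cohomology -/
theorem subsingleton_HH_of_isZero (L : X.left.Modules) (hL : PicF.IsInvertible L) (i : ℕ)
    (hz : IsZero ((Coh.Rpush X.hom i).obj L)) : Subsingleton (Coh.HH X.left L i) := by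
  haveI : IsLocallyNoetherian X.left := LocallyOfFiniteType.isLocallyNoetherian X.hom
  have hLq : Coh.IsQCoh L := (AmpleVan.isCoh_invertible hL).1
  let U : X.left.Opens := X.hom ⁻¹ᵁ ⊤
  letI := QCoh.modHH (QCoh.rhoV X.hom ⊤) (L.restrict U.ι) i
  obtain ⟨e⟩ := QCoh.nonempty_sections_HH (f := X.hom) hLq (isAffineOpen_top (Spec (CommRingCat.of k))) i
  haveI : Subsingleton Γ((Coh.Rpush X.hom i).obj L, ⊤) := subsingleton_of_forall_eq 0 fun z => by
    have := congr(($((IsZero.iff_id_eq_zero _).1 hz)).app ⊤ z)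
    exact this
  have hU : Subsingleton (Coh.HH (U : Scheme.{u}) (L.restrict U.ι) i) := e.symm.toEquiv.subsingleton
  letI : X.left.Over (Spec (CommRingCat.of k)) := ⟨X.hom⟩
  letI : (U : Scheme.{u}).Over (Spec (CommRingCat.of k)) := ⟨U.ι ≫ X.hom⟩
  haveI : IsIso U.ι := by
    rw [show U.ι = (Scheme.topIso X.left).hom from rfl]
    infer_instance
  haveI : QuasiCompact X.hom := inferInstance
  haveI : CompactSpace X.left := QuasiCompact.compactSpace_of_compactSpace X.hom
  haveI : X.left.IsSeparated := ⟨by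
    rw [show terminal.from X.left = X.hom ≫ terminal.from _ from terminal.hom_ext _ _]
    infer_instance⟩
  have hpb : IsPullback U.ι ((U : Scheme.{u}) ↘ Spec (CommRingCat.of k)) (X.left ↘ Spec (CommRingCat.of k))
      (Spec.map (CommRingCat.ofHom (algebraMap k k))) := by
    haveI : IsIso (Spec.map (CommRingCat.ofHom (algebraMap k k))) := by
      rw [show CommRingCat.ofHom (algebraMap k k) = 𝟙 (CommRingCat.of k) from rfl, Spec.map_id]
      infer_instance
    refine IsPullback.of_horiz_isIso ⟨?_⟩
    rw [show CommRingCat.ofHom (algebraMap k k) = 𝟙 (CommRingCat.of k) from rfl, Spec.map_id, Category.comp_id]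
    rfl
  obtain ⟨e'⟩ := QCoh.nonempty_HH_flat_bc (A := k) (B := k) U.ι hpb hLq i
  have hP : Subsingleton (Coh.HH (U : Scheme.{u}) ((Scheme.Modules.pullback U.ι).obj L) i) :=
    QCoh.subsingleton_HH_of_iso ((Scheme.Modules.restrictFunctorIsoPullback U.ι).app L) i hU
  haveI : Subsingleton (TensorProduct k k (Coh.HH X.left L i)) := e'.symm.toEquiv.subsingleton
  exact (TensorProduct.lid k (Coh.HH X.left L i)).symm.toEquiv.subsingleton

omit [GrpObj X] [IsProper X.hom] in
theorem not_subsingleton_HH_zero (h : Subsingleton (Coh.HH X.left (Coh.structureModule X.left) 0)) : False := by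
  haveI : IsIntegral X.left := GeometricallyIntegral.isIntegral_of_subsingleton X.hom
  haveI : Subsingleton Γ(X.left, ⊤) :=
    (Sheaf.H.equiv₀ (Coh.toAb (Coh.structureModule X.left)) isTerminalTop).symm.toEquiv.subsingleton
  haveI : Nonempty ((⊤ : X.left.Opens) : Scheme.{u}) := ⟨⟨Classical.arbitrary X.left, trivial⟩⟩
  exact one_ne_zero (α := Γ(X.left, ⊤)) (Subsingleton.elim _ _)

end Groth.Agent.AVVanish
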