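import Groth.Agent.AVVanish.Fibre
import Groth.Agent.AVVanish.Skyscraper
import Groth.Agent.S7804
import Groth.Agent.S2385

/-! Non-degenerate classes: translation differences fill the invariant classes. -/

set_option autoImplicit false
set_option backward.isDefEq.respectTransparency false
set_option linter.style.haveILetI false

universe u

open CategoryTheory CategoryTheory.Limits AlgebraicGeometry MonoidalCategory CartesianMonoidalCategory TopologicalSpace
open scoped MonObj

attribute [-instance] CategoryTheory.catToReflQuiver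

namespace Groth.Agent.AVVanish

open H23 H23.CubeAb H23.TrivBasic
open scoped Groth.Agent.H23.PicMul

variable {k : Type u} [Field k] (A : Over (Spec (CommRingCat.of k)))

/-- a module that is locally zero is zero -/
theorem isZero_of_locally {Y : Scheme.{u}} {M : Y.Modules}
    (h : ∀ y : Y, ∃ U : Y.Opens, y ∈ U ∧ IsZero (M.restrict U.ι)) : IsZero M := by
  rw [IsZero.iff_id_eq_zero]
  refine Scheme.Modules.hom_ext _ _ fun V => ?_
  ext z
  refine AModX.eq_of_locally (M := M) _ _ fun p hp => ?_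
  obtain ⟨U, hpU, hU⟩ := h p
  refine ⟨V ⊓ U, inf_le_left, ⟨hp, hpU⟩, ?_⟩
  have := QCoh.subsingleton_Γ_of_isZero hU (U.ι ⁻¹ᵁ (V ⊓ U))
  have hVeq : U.ι ''ᵁ (U.ι ⁻¹ᵁ (V ⊓ U)) = V ⊓ U := by
    rw [Scheme.Hom.image_preimage_eq_opensRange_inf, Scheme.Opens.opensRange_ι]
    exact inf_eq_right.2 inf_le_right
  haveI : Subsingleton Γ(M, V ⊓ U) := hVeq ▸ this
  exact Subsingleton.elim _ _

theorem isPullback_fst_slice (u : 𝟙_ (Over (Spec (CommRingCat.of k))) ⟶ A) :
    IsPullback (lift (toUnit A ≫ u) (𝟙 A)).left A.hom (fst A A).left u.left := by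
  have hu : u.left ≫ A.hom = 𝟙 _ := Over.w u
  have h1 : (lift (toUnit A ≫ u) (𝟙 A)).left ≫ (snd A A).left = 𝟙 _ := by
    rw [← Over.comp_left, lift_snd, Over.id_left]
  have h2 : (lift (toUnit A ≫ u) (𝟙 A)).left ≫ (fst A A).left = A.hom ≫ u.left := by
    rw [← Over.comp_left, lift_fst, Over.comp_left, Over.toUnit_left]
    try rfl
  refine IsPullback.of_right ?_ h2 (IsPullback.of_hasPullback A.hom A.hom).flip
  show IsPullback ((lift (toUnit A ≫ u) (𝟙 A)).left ≫ (snd A A).left) A.hom A.hom (u.left ≫ A.hom)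
  rw [h1, hu]
  exact IsPullback.id_horiz _

theorem isPullback_snd_slice (u : 𝟙_ (Over (Spec (CommRingCat.of k))) ⟶ A) :
    IsPullback (lift (𝟙 A) (toUnit A ≫ u)).left A.hom (snd A A).left u.left := by
  have hu : u.left ≫ A.hom = 𝟙 _ := Over.w u
  have h1 : (lift (𝟙 A) (toUnit A ≫ u)).left ≫ (fst A A).left = 𝟙 _ := by
    rw [← Over.comp_left, lift_fst, Over.id_left]
  have h2 : (lift (𝟙 A) (toUnit A ≫ u)).left ≫ (snd A A).left = A.hom ≫ u.left := by
    rw [← Over.comp_left, lift_snd, Over.comp_left, Over.toUnit_left]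
    try rfl
  refine IsPullback.of_right ?_ h2 (IsPullback.of_hasPullback A.hom A.hom)
  show IsPullback ((lift (𝟙 A) (toUnit A ≫ u)).left ≫ (fst A A).left) A.hom A.hom (u.left ≫ A.hom)
  rw [h1, hu]
  exact IsPullback.id_horiz _

variable [IsAlgClosed k]

theorem exists_rational [LocallyOfFiniteType A.hom] {w : A.left} (hw : IsClosed ({w} : Set A.left)) :
    ∃ p : 𝟙_ (Over (Spec (CommRingCat.of k))) ⟶ A, p.left (IsLocalRing.closedPoint k) = w := by
  obtain ⟨p, hp⟩ := ((pointEquivClosedPoint A.hom).surjective ⟨w, hw⟩)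
  exact ⟨Over.homMk p.1 p.2, congrArg Subtype.val hp⟩

variable [GrpObj A] [IsProper A.hom] [GeometricallyIntegral A.hom]

theorem tr_comp (a u : 𝟙_ (Over (Spec (CommRingCat.of k))) ⟶ A) : tr a ≫ tr u = tr (a * u) := by
  show tr a ≫ (𝟙 A * (toUnit A ≫ u)) = 𝟙 A * (toUnit A ≫ (a * u))
  rw [MonObj.comp_mul, Category.comp_id, ← Category.assoc, toUnit_unique (tr a ≫ toUnit A) (toUnit A),
    MonObj.comp_mul, _root_.mul_assoc]

/-- the invariant classes with cohomology: only the trivial one -/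
theorem subsingleton_HH_of_invariant {x : PicF.Cl A.left} {X : A.left.Modules} (hX : PicF.IsInvertible X)
    (hx : PicF.cl X = x) (hinv : ∀ a, F x (tr a) = x) (hne : x ≠ 1) (n : ℕ) :
    Subsingleton (Coh.HH A.left X n) := by
  have hadd : IsAdditive x := isAdditive_of_invariant ⟨X, hx, hX⟩ hinv
  refine (S7804.result k A X hX (PicMul.cl_eq_iff.1 ?_)).1 (fun ht => hne (hx ▸ (cl_eq_one_iff X).2 ht)) n
  have h : F x μ[A] = F x (fst A A) * F x (snd A A) := by
    rw [show μ[A] = fst A A * snd A A from by rw [Hom.mul_def, lift_fst_snd, Category.id_comp]]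
    exact hadd
  subst hx
  exact h

/-- surjectivity of the translation differences of a non-degenerate class -/
theorem exists_translate_eq {c d : PicF.Cl A.left} (hc : PicF.IsInvertibleCl c) (hd : PicF.IsInvertibleCl d)
    (hnd : Set.Finite {a : 𝟙_ (Over (Spec (CommRingCat.of k))) ⟶ A | F c (tr a) = c})
    (hinv : ∀ a, F d (tr a) = d) :
    ∃ u, F c (tr u) = d * c := by
  by_contra hno
  simp only [not_exists] at hno
  haveI : IsCommMonObj A := isCommMonObj_of_isProper_of_geometricallyIntegral A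
  haveI : IsIntegral A.left := GeometricallyIntegral.isIntegral_of_subsingleton A.hom
  haveI : IsLocallyNoetherian A.left := LocallyOfFiniteType.isLocallyNoetherian A.hom
  haveI : JacobsonSpace ↥A.left := LocallyOfFiniteType.jacobsonSpace A.hom
  obtain ⟨Lc, hLc, hLci⟩ := id hc
  obtain ⟨Lc', hLc'i, hcc⟩ := PicInv.exists_inverse hLci
  obtain ⟨Lm, hLm, hLmi⟩ := PicMul.isInvertibleCl_mul hd hc
  obtain ⟨Le, hLei, hme⟩ := PicInv.exists_inverse hLmi
  let c' := PicF.cl Lc'
  let e := PicF.cl Le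
  have hc' : c * c' = 1 := by rw [← hLc]; exact PicMul.cl_eq_iff.2 hcc
  have he : d * c * e = 1 := by rw [← hLm]; exact PicMul.cl_eq_iff.2 hme
  obtain ⟨N, hN, hNi⟩ := PicMul.isInvertibleCl_mul (PicMul.isInvertibleCl_mul
    (show PicF.IsInvertibleCl (F c (snd A A * fst A A)) from PicClLib.isInvertibleCl_pullCl _ hc)
    (show PicF.IsInvertibleCl (F c' (fst A A)) from PicClLib.isInvertibleCl_pullCl _ ⟨Lc', rfl, hLc'i⟩))
    (show PicF.IsInvertibleCl (F e (snd A A)) from PicClLib.isInvertibleCl_pullCl _ ⟨Le, rfl, hLei⟩)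
  have hσ : ∀ u : 𝟙_ (Over (Spec (CommRingCat.of k))) ⟶ A,
      PicF.cl ((Scheme.Modules.pullback (lift (toUnit A ≫ u) (𝟙 A)).left).obj N) = F c (tr u) * e := by
    intro u
    show PicMul.pullHom _ (PicF.cl N) = _
    rw [hN, map_mul, map_mul, pull_F, pull_F, pull_F, MonObj.comp_mul, lift_fst, lift_snd,
      F_const ⟨Lc', rfl, hLc'i⟩, _root_.mul_one, show F e (𝟙 A) = e from PicClLib.pullCl_id e]
  have hτ : ∀ u : 𝟙_ (Over (Spec (CommRingCat.of k))) ⟶ A,
      PicF.cl ((Scheme.Modules.pullback (lift (𝟙 A) (toUnit A ≫ u)).left).obj N) = F c (tr u) * c' := by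
    intro u
    show PicMul.pullHom _ (PicF.cl N) = _
    rw [hN, map_mul, map_mul, pull_F, pull_F, pull_F, MonObj.comp_mul, lift_fst, lift_snd,
      F_const ⟨Le, rfl, hLei⟩, _root_.mul_one, show F c' (𝟙 A) = c' from PicClLib.pullCl_id c',
      mul_comm (toUnit A ≫ u)]
  have hxinv : ∀ u a, F (F c (tr u) * e) (tr a) = F c (tr u) * e := by
    intro u a
    rw [F_mul, show F (F c (tr u)) (tr a) = F c (tr a ≫ tr u) from pull_F _ _ _, tr_comp]
    have h1 : F e (tr a) * (d * F c (tr a)) = 1 := by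
      have := congrArg (fun t => F t (tr a)) he
      simp only [map_mul, map_one, hinv a] at this
      rw [mul_comm]
      exact this
    have h2 : F c (tr (a * u)) * c = F c (tr a) * F c (tr u) := square hc a u
    refine (IsUnit.mul_left_inj (IsUnit.of_mul_eq_one_right _ h1)).1 ?_
    calc F c (tr (a * u)) * F e (tr a) * (d * F c (tr a)) = F c (tr (a * u)) := by
          rw [mul_assoc, h1, mul_one]
      _ = F c (tr (a * u)) * (d * c * e) := by rw [he, mul_one]
      _ = (F c (tr (a * u)) * c) * (d * e) := by ac_rfl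
      _ = (F c (tr a) * F c (tr u)) * (d * e) := by rw [h2]
      _ = F c (tr u) * e * (d * F c (tr a)) := by ac_rfl
  let p := (fst A A).left
  let q := (snd A A).left
  haveI : IsProper p := inferInstanceAs (IsProper (pullback.fst A.hom A.hom))
  haveI : IsProper q := inferInstanceAs (IsProper (pullback.snd A.hom A.hom))
  haveI : Flat A.hom := inferInstance
  haveI : Flat p := inferInstanceAs (Flat (pullback.fst A.hom A.hom))
  haveI : Flat q := inferInstanceAs (Flat (pullback.snd A.hom A.hom))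
  haveI : IsLocallyNoetherian (A ⊗ A).left := LocallyOfFiniteType.isLocallyNoetherian p
  have hNc : Coh.IsCoh N := AmpleVan.isCoh_invertible hNi
  have hNf : FlatMod.IsFlat N := KFlatLib.isFlat_of_isFinLocFree (ParaFX.FlatDesc.isFinLocFree_of_invertible hNi)
  have hp : ∀ i, IsZero ((Coh.Rpush p i).obj N) := fun i => isZero_of_locally fun y => by
    obtain ⟨z, hz1, hz2⟩ := nonempty_inter_closedPoints (Z := closure ({y} : Set A.left))
      ⟨y, subset_closure rfl⟩ isClosed_closure.isLocallyClosed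
    obtain ⟨u, hu⟩ := exists_rational A hz2
    have hv : Subsingleton (CohIII.fiberH p N (u.left (IsLocalRing.closedPoint k)) i) :=
      (subsingleton_fiberH_iff (isPullback_fst_slice A u) A.hom (Over.w u) hNc.1 i).2
        (subsingleton_HH_of_invariant A (PicClLib.isInvertible_pullback _ hNi) (hσ u) (hxinv u)
          (fun h => hno u (by
            calc F c (tr u) = F c (tr u) * (d * c * e) := by rw [he, mul_one]
              _ = (F c (tr u) * e) * (d * c) := by ac_rfl
              _ = d * c := by rw [h, one_mul])) i)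
    obtain ⟨U, hzU, hU⟩ := S2385.result p N hNc (PushAmp.isFlatOver_of_isFlat p hNf) _ i hv
    rw [hu] at hzU
    refine ⟨U, ?_, hU⟩
    obtain ⟨w, hwU, hw⟩ := mem_closure_iff.1 hz1 U U.2 hzU
    rwa [Set.mem_singleton_iff.1 hw] at hwU
  let Z : Set A.left := (fun a : 𝟙_ (Over (Spec (CommRingCat.of k))) ⟶ A => a.left (IsLocalRing.closedPoint k)) ''
    {a | F c (tr a) = c}
  have hcl : ∀ z ∈ Z, IsClosed ({z} : Set A.left) := by
    rintro _ ⟨a, -, rfl⟩
    exact ((pointEquivClosedPoint A.hom) ⟨a.left, Over.w a⟩).2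
  have hq : ∀ i, ∀ y ∉ Z, ∃ U : A.left.Opens, y ∈ U ∧ IsZero (((Coh.Rpush q i).obj N).restrict U.ι) := by
    intro i y hy
    have hZc : IsClosed Z := by
      rw [← Set.biUnion_of_singleton Z]
      exact (hnd.image _).isClosed_biUnion hcl
    obtain ⟨z, ⟨hz1, hz3⟩, hz2⟩ := nonempty_inter_closedPoints (Z := closure ({y} : Set A.left) ∩ Zᶜ)
      ⟨y, subset_closure rfl, hy⟩ (isClosed_closure.isLocallyClosed.inter hZc.isOpen_compl.isLocallyClosed)
    obtain ⟨u, hu⟩ := exists_rational A hz2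
    have hne : F c (tr u) ≠ c := fun h => hz3 ⟨u, h, hu⟩
    have hinv' : ∀ a, F (F c (tr u) * c') (tr a) = F c (tr u) * c' := by
      intro a
      rw [F_mul, show F (F c (tr u)) (tr a) = F c (tr a ≫ tr u) from pull_F _ _ _, tr_comp]
      have h1 : F c' (tr a) * F c (tr a) = 1 := by
        rw [← F_mul, mul_comm, hc']
        exact map_one _
      refine (IsUnit.mul_left_inj (IsUnit.of_mul_eq_one_right _ h1)).1 ?_
      calc F c (tr (a * u)) * F c' (tr a) * F c (tr a) = F c (tr (a * u)) * (c * c') := by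
            rw [mul_assoc, h1, hc']
        _ = (F c (tr a) * F c (tr u)) * c' := by rw [← mul_assoc, square hc a u]
        _ = F c (tr u) * c' * F c (tr a) := by ac_rfl
    have hv : Subsingleton (CohIII.fiberH q N (u.left (IsLocalRing.closedPoint k)) i) :=
      (subsingleton_fiberH_iff (isPullback_snd_slice A u) A.hom (Over.w u) hNc.1 i).2
        (subsingleton_HH_of_invariant A (PicClLib.isInvertible_pullback _ hNi) (hτ u) hinv'
          (fun h => hne (by
            calc F c (tr u) = F c (tr u) * c' * c := by rw [mul_assoc, mul_comm c', hc', mul_one]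
              _ = c := by rw [h, one_mul])) i)
    obtain ⟨U, hzU, hU⟩ := S2385.result q N hNc (PushAmp.isFlatOver_of_isFlat q hNf) _ i hv
    rw [hu] at hzU
    refine ⟨U, ?_, hU⟩
    obtain ⟨w, hwU, hw⟩ := mem_closure_iff.1 hz1 U U.2 hzU
    rwa [Set.mem_singleton_iff.1 hw] at hwU
  have hq0 : ∀ i, IsZero ((Coh.Rpush q i).obj N) :=
    isZero_Rpush_of_finite q N (hnd.image _) hcl hq (subsingleton_HH_of_all_isZero p N hp)
  have h0 := subsingleton_fiberH_zero q hNc (PushAmp.isFlatOver_of_isFlat q hNf) hq0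
    ((1 : 𝟙_ (Over (Spec (CommRingCat.of k))) ⟶ A).left (IsLocalRing.closedPoint k))
  replace h0 := (subsingleton_fiberH_iff (isPullback_snd_slice A 1) A.hom (Over.w _) hNc.1 0).1 h0
  have htriv : Triv ((Scheme.Modules.pullback (lift (𝟙 A) (toUnit A ≫ (1 : 𝟙_ _ ⟶ A))).left).obj N) :=
    (cl_eq_one_iff _).1 (by
      rw [hτ 1, show (tr (1 : 𝟙_ _ ⟶ A)) = 𝟙 A from by
        show 𝟙 A * (toUnit A ≫ 1) = 𝟙 A
        rw [MonObj.comp_one, _root_.mul_one], show F c (𝟙 A) = c from PicClLib.pullCl_id c, hc'])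
  exact not_subsingleton_HH_zero A (QCoh.subsingleton_HH_of_iso htriv.some 0 h0)

end Groth.Agent.AVVanish
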