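import Groth.Agent.AVVanish.PhiSurj
import Groth.Agent.AVTorsLib.Count
import Groth.Agent.Lib.AVProj
import Groth.Agent.S12002
import Groth.Agent.S12008
import Groth.Agent.S7795
import Groth.Agent.AmpleX.Pow
import Groth.Prelude.Def_Pic13

/-! Translation invariance and τ-equivalence. -/

set_option autoImplicit false
set_option backward.isDefEq.respectTransparency false
set_option linter.style.haveILetI false

universe u

open CategoryTheory CategoryTheory.Limits AlgebraicGeometry MonoidalCategory CartesianMonoidalCategory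
open scoped MonObj

attribute [-instance] CategoryTheory.catToReflQuiver

namespace Groth.Agent.AVVanish

open H23 H23.CubeAb H23.TrivBasic
open scoped Groth.Agent.H23.PicMul

variable {k : Type u} [Field k] [IsAlgClosed k] (A : Over (Spec (CommRingCat.of k))) [GrpObj A] [IsProper A.hom]
  [GeometricallyIntegral A.hom]

theorem tr_one : tr (1 : 𝟙_ (Over (Spec (CommRingCat.of k))) ⟶ A) = 𝟙 A := by
  show 𝟙 A * (toUnit A ≫ 1) = 𝟙 A
  rw [MonObj.comp_one, _root_.mul_one]

theorem F_tr_one (c : PicF.Cl A.left) : F c (tr (1 : 𝟙_ (Over (Spec (CommRingCat.of k))) ⟶ A)) = c := by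
  rw [tr_one]
  exact PicClLib.pullCl_id c

/-- classes with an invariant positive power are invariant -/
theorem invariant_of_pow {c : PicF.Cl A.left} (hc : PicF.IsInvertibleCl c) {n : ℕ} (hn : 1 ≤ n)
    (h : ∀ a, F (c ^ n) (tr a) = c ^ n) (a : 𝟙_ (Over (Spec (CommRingCat.of k))) ⟶ A) : F c (tr a) = c := by
  haveI : IsCommMonObj A := isCommMonObj_of_isProper_of_geometricallyIntegral A
  obtain ⟨v, hv⟩ := (PicMul.isUnit_of_isInvertibleCl hc).exists_right_inv
  let χ : (𝟙_ (Over (Spec (CommRingCat.of k))) ⟶ A) →* PicF.Cl A.left :=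
    { toFun := fun a => F c (tr a) * v
      map_one' := by rw [F_tr_one, hv]
      map_mul' := fun a b => by
        calc F c (tr (a * b)) * v = F c (tr (a * b)) * (c * v) * v := by rw [hv, mul_one]
          _ = (F c (tr (a * b)) * c) * v * v := by ac_rfl
          _ = (F c (tr a) * F c (tr b)) * v * v := by rw [square hc a b]
          _ = F c (tr a) * v * (F c (tr b) * v) := by ac_rfl }
  obtain ⟨b, hb⟩ := AVTorsLib.exists_pow_eq (A := A) n hn a
  have h1 : χ a = 1 := by
    rw [show a = (show 𝟙_ (Over (Spec (CommRingCat.of k))) ⟶ A from b) ^ n from hb.symm, map_pow]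
    show (F c (tr _) * v) ^ n = 1
    rw [mul_pow, ← map_pow]
    refine (congrArg (· * v ^ n) (h _)).trans ?_
    rw [← mul_pow, hv, one_pow]
  calc F c (tr a) = F c (tr a) * (c * v) := by rw [hv, mul_one]
    _ = χ a * c := by show _ = F c (tr a) * v * c; ac_rfl
    _ = c := by rw [h1, one_mul]

/-- an invariant class is algebraically equivalent to zero -/
theorem isAlgEquivZero_of_invariant (L : A.left.Modules) (hL : PicF.IsInvertible L)
    (hinv : ∀ a, F (PicF.cl L) (tr a) = PicF.cl L) :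
    Pic13.IsAlgEquivZero k A.left L := by
  haveI : IsIntegral A.left := GeometricallyIntegral.isIntegral_of_subsingleton A.hom
  obtain ⟨W, hW⟩ := AVProj.exists_isAmple (X := A)
  obtain ⟨W', hW'i, hWW'⟩ := PicInv.exists_inverse hW.1
  let c := PicF.cl W
  let v := PicF.cl W'
  have hv : c * v = 1 := PicMul.cl_eq_iff.2 hWW'
  obtain ⟨u, hu⟩ := exists_translate_eq A (c := c) (d := PicF.cl L) ⟨W, rfl, hW.1⟩ ⟨L, rfl, hL⟩
    ((S12002.result k A W hW).subset fun a ha => PicMul.cl_eq_iff.1 ha) hinv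
  obtain ⟨M, hM, hMi⟩ := PicMul.isInvertibleCl_mul
    (show PicF.IsInvertibleCl (F c (fst A A * snd A A)) from PicClLib.isInvertibleCl_pullCl _ ⟨W, rfl, hW.1⟩)
    (show PicF.IsInvertibleCl (F v (fst A A)) from PicClLib.isInvertibleCl_pullCl _ ⟨W', rfl, hW'i⟩)
  have hslice : ∀ w : 𝟙_ (Over (Spec (CommRingCat.of k))) ⟶ A,
      PicF.cl (Pic13.fibreMod k A.left A.hom w.left (Over.w w) M) = F c (tr w) * v := by
    intro w
    have hs : Pic13.sliceAt k A.left A.hom w.left (Over.w w) = (lift (𝟙 A) (toUnit A ≫ w)).left := by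
      apply pullback.hom_ext
      · have h1 : (lift (𝟙 A) (toUnit A ≫ w)).left ≫ (fst A A).left = 𝟙 _ := by
          rw [← Over.comp_left, lift_fst, Over.id_left]
        exact (pullback.lift_fst _ _ _).trans h1.symm
      · have h1 : (lift (𝟙 A) (toUnit A ≫ w)).left ≫ (snd A A).left = A.hom ≫ w.left := by
          rw [← Over.comp_left, lift_snd, Over.comp_left, Over.toUnit_left]
        exact (pullback.lift_snd _ _ _).trans h1.symm
    show PicMul.pullHom (Pic13.sliceAt k A.left A.hom w.left (Over.w w)) (PicF.cl M) = _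
    rw [hs]
    show PicMul.pullHom (lift (𝟙 A) (toUnit A ≫ w)).left (PicF.cl M) = _
    refine (congrArg _ hM).trans ((map_mul _ _ _).trans ?_)
    refine (congrArg₂ (· * ·) (pull_F _ _ _) (pull_F _ _ _)).trans ?_
    rw [MonObj.comp_mul, lift_fst, lift_snd, show F v (𝟙 A) = v from PicClLib.pullCl_id v]
  refine ⟨A.left, A.hom, inferInstance, inferInstance, inferInstance, M, hMi, u.left,
    (1 : 𝟙_ (Over (Spec (CommRingCat.of k))) ⟶ A).left, Over.w u, Over.w _, PicMul.cl_eq_iff.1 ?_, PicMul.cl_eq_iff.1 ?_⟩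
  · rw [hslice, hu, mul_assoc, hv, mul_one]
  · rw [hslice, F_tr_one, hv]
    rfl

theorem isTauEquivZero_iff (L : A.left.Modules) (hL : PicF.IsInvertible L) :
    Pic13.IsTauEquivZero k A.left L ↔ ∀ a, F (PicF.cl L) (tr a) = PicF.cl L := by
  constructor
  · rintro ⟨n, hn, hLn⟩ a
    haveI : IsCommMonObj A := isCommMonObj_of_isProper_of_geometricallyIntegral A
    haveI : Smooth A.hom := S7795.result A
    have hinv := S12008.result k A _ (InvX.isInvertible_tensorPow hL n) hLn
    refine invariant_of_pow A ⟨L, rfl, hL⟩ hn (fun b => ?_) a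
    rw [← PicMul.cl_tensorPow]
    exact PicMul.cl_eq_iff.2 (hinv b)
  · intro h
    refine ⟨1, one_pos, isAlgEquivZero_of_invariant A _ (InvX.isInvertible_tensorPow hL 1) fun a => ?_⟩
    rw [PicMul.cl_tensorPow, pow_one]
    exact h a

/-- an effective ample class translates onto its twists by invariant classes -/
theorem exists_effective :
    ∃ (W : A.left.Modules) (s : Coh.structureModule A.left ⟶ W), PicF.IsInvertible W ∧ s ≠ 0 ∧
      ∀ L : A.left.Modules, PicF.IsInvertible L → (∀ a, F (PicF.cl L) (tr a) = PicF.cl L) →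
        ∃ u, PicF.cl L * PicF.cl W = F (PicF.cl W) (tr u) := by
  haveI : IsIntegral A.left := GeometricallyIntegral.isIntegral_of_subsingleton A.hom
  obtain ⟨W₀, hW₀⟩ := AVProj.exists_isAmple (X := A)
  obtain ⟨n, s, hxs, -⟩ := hW₀.2.2 (Classical.arbitrary A.left)
  refine ⟨CohB1.tensorPow W₀ (n + 1), s, InvX.isInvertible_tensorPow hW₀.1 _, ?_, fun L hL hinv => ?_⟩
  · intro hs
    obtain ⟨U, hxU, hU⟩ := InvX.mem_genLocus hxs |> fun ⟨U, h1, h2⟩ => (⟨U, h1, h2⟩ : ∃ U : A.left.Opens, _ ∈ U ∧ InvX.IsFrame (AModX.res _ (le_top : U ≤ ⊤) (InvX.one s)))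
    haveI : Nonempty (U : Scheme.{u}) := ⟨⟨_, hxU⟩⟩
    refine zero_ne_one (α := Γ(A.left, U)) (hU.coord_unique le_rfl ?_)
    rw [show InvX.one s = 0 by rw [hs]; rfl, map_zero, map_zero, smul_zero, smul_zero]
  · obtain ⟨u, hu⟩ := exists_translate_eq A (c := PicF.cl (CohB1.tensorPow W₀ (n + 1))) (d := PicF.cl L)
      ⟨_, rfl, InvX.isInvertible_tensorPow hW₀.1 _⟩ ⟨L, rfl, hL⟩
      ((S12002.result k A _ (AmpleX.isAmple_tensorPow hW₀ n.succ_pos)).subset fun a ha => PicMul.cl_eq_iff.1 ha) hinv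
    exact ⟨u, hu.symm⟩

end Groth.Agent.AVVanish
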