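import Groth.Agent.AVVanish.TauEquiv
import Groth.Agent.AmpleDev.Basic
import Groth.Agent.H23.RedSub
import Groth.Agent.Lib.AVPair
import Groth.Agent.Lib.AVSeesaw
import Groth.Agent.S1297

/-! Pullback of invariant classes along finite and surjective homomorphisms. -/

set_option autoImplicit false
set_option backward.isDefEq.respectTransparency false
set_option linter.style.haveILetI false

universe u

open CategoryTheory CategoryTheory.Limits AlgebraicGeometry MonoidalCategory CartesianMonoidalCategory TopologicalSpace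
open scoped MonObj

attribute [-instance] CategoryTheory.catToReflQuiver

namespace Groth.Agent.AVVanish

open H23 H23.CubeAb H23.TrivBasic
open scoped Groth.Agent.H23.PicMul

variable {k : Type u} [Field k]

theorem isClosed_basicOpen {X : Scheme.{u}} (π : X ⟶ Spec (CommRingCat.of k)) [IsProper π] (f : Γ(X, ⊤)) :
    IsClosed (X.basicOpen f : Set X) := by
  have hfin := S1297.finite_appTop π
  haveI : IsArtinianRing Γ(Spec (CommRingCat.of k), ⊤) :=
    (Scheme.ΓSpecIso (CommRingCat.of k)).commRingCatIsoToRingEquiv.symm.surjective.isArtinianRing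
  letI := π.appTop.hom.toAlgebra
  haveI : Module.Finite Γ(Spec (CommRingCat.of k), ⊤) Γ(X, ⊤) := hfin
  haveI : IsArtinianRing Γ(X, ⊤) := IsArtinianRing.of_finite Γ(Spec (CommRingCat.of k), ⊤) Γ(X, ⊤)
  obtain ⟨n, g, hg⟩ := IsArtinian.exists_pow_succ_smul_dvd (R := Γ(X, ⊤)) (M := Γ(X, ⊤)) f 1
  simp only [smul_eq_mul, mul_one] at hg
  have hzero : f ^ n * (1 - f * g) = 0 := by
    rw [show f ^ n.succ = f ^ (n + 1) from rfl] at hg
    linear_combination (norm := ring_nf) -hg
  have : (X.basicOpen f : Set X)ᶜ = (X.basicOpen (1 - f * g) : Set X) := by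
    ext x
    simp only [Set.mem_compl_iff, SetLike.mem_coe, Scheme.mem_basicOpen_top]
    constructor
    · intro hx
      rw [map_sub, map_one, map_mul]
      exact IsLocalRing.isUnit_one_sub_self_of_mem_nonunits _
        (mul_mem_nonunits_left (by exact hx))
    · intro h hf
      have h0 := (hf.pow n).mul h
      rw [← map_pow, ← map_mul, hzero, map_zero] at h0
      exact not_isUnit_zero h0
  rw [← isOpen_compl_iff, this]
  exact (X.basicOpen _).2

/-- an ample class dying on a proper surjective cover lives on a finite scheme -/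
theorem finite_of_pullback_triv {Z Z' : Scheme.{u}} (q : Z ⟶ Spec (CommRingCat.of k)) [IsProper q]
    (π : Z' ⟶ Z) [IsProper π] [Surjective π] {L : Z.Modules} (hL : CohB1.IsAmple L)
    (hT : Triv ((Scheme.Modules.pullback π).obj L)) : Finite Z := by
  haveI : CompactSpace Z := hL.2.1
  have hpt : ∀ x : Z, ∃ U : Z.Opens, x ∈ U ∧ (U : Set Z).Finite := by
    intro x
    obtain ⟨n, s, hxs, haff⟩ := hL.2.2 x
    let U := CohB1.genLocus (CohB1.tensorPow L (n + 1)) s
    refine ⟨U, hxs, ?_⟩
    have hP : PicF.IsInvertible (CohB1.tensorPow L (n + 1)) := InvX.isInvertible_tensorPow hL.1 _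
    have hTn : Triv ((Scheme.Modules.pullback π).obj (CohB1.tensorPow L (n + 1))) := by
      rw [← cl_eq_one_iff]
      show PicMul.pullHom π (PicF.cl (CohB1.tensorPow L (n + 1))) = 1
      rw [PicMul.cl_tensorPow, map_pow, show PicMul.pullHom π (PicF.cl L) = 1 from (cl_eq_one_iff _).2 hT, one_pow]
    let t : Γ(CohB1.tensorPow L (n + 1), ⊤) := InvX.one s
    let t' : Γ((Scheme.Modules.pullback π).obj (CohB1.tensorPow L (n + 1)), ⊤) := InvX.pullElt π t
    have ht : locus t = U := by
      show CohB1.genLocus _ (InvX.ofSect (InvX.one s)) = _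
      rw [AVAmple.ofSect_one]
    obtain ⟨e, he⟩ := hTn.exists_frame
    obtain ⟨g, hg⟩ := he.exists_coord le_rfl t'
    rw [AModX.res_self] at hg
    have hg' : locus t' ⊓ ⊤ = Z'.basicOpen g := locus_eq_basicOpen he (by rw [AModX.res_self]; exact hg)
    have hcl : IsClosed (locus t' : Set Z') := by
      rw [inf_top_eq] at hg'
      rw [hg']
      exact isClosed_basicOpen (π ≫ q) g
    have hU : IsClosed (U : Set Z) := by
      have hpre : (locus t' : Set Z') = π ⁻¹' (U : Set Z) := by
        rw [← ht]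
        exact congrArg (fun V : Z'.Opens => (V : Set Z')) (locus_pullElt hP π t)
      rw [← Set.image_preimage_eq (U : Set Z) π.surjective, ← hpre]
      exact π.isClosedMap _ hcl
    haveI : IsClosedImmersion U.ι := .of_isPreimmersion _ (by rw [Scheme.Opens.range_ι]; exact hU)
    haveI : IsProper (U.ι ≫ q) := inferInstance
    haveI : IsAffine (U : Scheme.{u}) := haff
    haveI : IsAffineHom (U.ι ≫ q) := isAffineHom_of_isAffine _
    haveI : IsFinite (U.ι ≫ q) := IsFinite.iff_isProper_and_isAffineHom.2 ⟨inferInstance, inferInstance⟩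
    obtain ⟨p⟩ : Nonempty (Spec (CommRingCat.of k)) := inferInstanceAs (Nonempty (PrimeSpectrum k))
    haveI : Subsingleton (Spec (CommRingCat.of k)) := inferInstanceAs (Subsingleton (PrimeSpectrum k))
    have hUf : Finite (U : Scheme.{u}) :=
      Set.finite_univ_iff.1 ((IsFinite.finite_preimage_singleton (U.ι ≫ q) p).subset fun z _ => Subsingleton.elim _ _)
    rw [← Scheme.Opens.range_ι U]
    exact Set.finite_range _
  choose U hxU hU using hpt
  obtain ⟨t, ht⟩ := isCompact_univ.elim_finite_subcover (fun x => (U x : Set Z)) (fun x => (U x).2)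
    fun x _ => Set.mem_iUnion.2 ⟨x, hxU x⟩
  exact Set.finite_univ_iff.1 ((t.finite_toSet.biUnion fun x _ => hU x).subset ht)

/-- triviality of a slice over a rational point -/
theorem fieldTriv_of_rational' (A : Over (Spec (CommRingCat.of k))) {B : Over (Spec (CommRingCat.of k))}
    [IsProper A.hom] [GeometricallyIntegral A.hom] [LocallyOfFiniteType B.hom]
    {M : (A ⊗ B).left.Modules} (hM : PicF.IsInvertible M)
    (a : 𝟙_ (Over (Spec (CommRingCat.of k))) ⟶ B)
    (h : Triv ((Scheme.Modules.pullback (lift (𝟙 A) (toUnit A ≫ a)).left).obj M)) :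
    SeesawGlobal.FieldTriv (snd A B).left M (a.left (IsLocalRing.closedPoint k)) := by
  haveI : IsProper (snd A B).left := inferInstanceAs (IsProper (pullback.snd A.hom B.hom))
  haveI : Flat (snd A B).left := inferInstanceAs (Flat (pullback.snd A.hom B.hom))
  haveI : GeometricallyIntegral (snd A B).left := inferInstanceAs (GeometricallyIntegral (pullback.snd A.hom B.hom))
  haveI : IsLocallyNoetherian B.left := LocallyOfFiniteType.isLocallyNoetherian B.hom
  refine SeesawGlobal.fieldTriv_of_point (snd A B).left hM k (a.left : Spec (CommRingCat.of k) ⟶ B.left) rfl ?_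
  refine SeesawGlobal.triv_of_factor (pullback.fst (snd A B).left a.left ≫ (fst A B).left) ?_ h
  have h1 : (lift (𝟙 A) (toUnit A ≫ a)).left ≫ (fst A B).left = 𝟙 _ := by
    rw [← Over.comp_left, lift_fst]
    rfl
  have h2 : (lift (𝟙 A) (toUnit A ≫ a)).left ≫ (snd A B).left = (toUnit A).left ≫ a.left := by
    rw [← Over.comp_left, lift_snd, Over.comp_left]
  apply pullback.hom_ext
  · show (_ ≫ (lift (𝟙 A) (toUnit A ≫ a)).left) ≫ (fst A B).left = pullback.fst _ _ ≫ (fst A B).left
    rw [Category.assoc, h1, Category.comp_id]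
  · show (_ ≫ (lift (𝟙 A) (toUnit A ≫ a)).left) ≫ (snd A B).left = pullback.fst _ _ ≫ (snd A B).left
    rw [Category.assoc, h2, pullback.condition, ← Category.assoc]
    congr 1
    have hu : (toUnit A).left = A.hom := rfl
    have e1 : (snd A B).left ≫ B.hom = (fst A B).left ≫ A.hom := (Over.w (snd A B)).trans (Over.w (fst A B)).symm
    rw [hu, Category.assoc, ← e1, ← Category.assoc, pullback.condition, Category.assoc, Over.w a]
    exact Category.comp_id _

variable [IsAlgClosed k] {A B : Over (Spec (CommRingCat.of k))}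
  [GrpObj A] [IsProper A.hom] [GeometricallyIntegral A.hom]
  [GrpObj B] [IsProper B.hom] [GeometricallyIntegral B.hom]

omit [IsAlgClosed k] [IsProper A.hom] [GeometricallyIntegral A.hom] [IsProper B.hom] [GeometricallyIntegral B.hom] in
theorem tr_hom (α : A ⟶ B) [IsMonHom α] (a : 𝟙_ (Over (Spec (CommRingCat.of k))) ⟶ A) :
    tr a ≫ α = α ≫ tr (a ≫ α) := by
  show (𝟙 A * (toUnit A ≫ a)) ≫ α = α ≫ (𝟙 B * (toUnit B ≫ (a ≫ α)))
  rw [MonObj.mul_comp, Category.id_comp, MonObj.comp_mul, Category.comp_id, ← Category.assoc α,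
    toUnit_unique (α ≫ toUnit B) (toUnit A), Category.assoc]

/-- invariant classes are pullbacks of invariant classes along finite homomorphisms -/
theorem exists_pullback_invariant (α : A ⟶ B) [IsMonHom α] [IsFinite α.left] {d : PicF.Cl A.left}
    (hd : PicF.IsInvertibleCl d) (hinv : ∀ a, F d (tr a) = d) :
    ∃ N : B.left.Modules, PicF.IsInvertible N ∧ (∀ b, F (PicF.cl N) (tr b) = PicF.cl N) ∧
      PicMul.pullHom α.left (PicF.cl N) = d := by
  haveI : IsIntegral B.left := GeometricallyIntegral.isIntegral_of_subsingleton B.hom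
  obtain ⟨W, hW⟩ := AVProj.exists_isAmple (X := B)
  obtain ⟨W', hW'i, hWW'⟩ := PicInv.exists_inverse hW.1
  have hv : PicF.cl W * PicF.cl W' = 1 := PicMul.cl_eq_iff.2 hWW'
  letI : B.left.Over (Spec (CommRingCat.of k)) := ⟨B.hom⟩
  haveI : IsProper (B.left ↘ Spec (CommRingCat.of k)) := inferInstanceAs (IsProper B.hom)
  have hV : CohB1.IsAmple ((Scheme.Modules.pullback α.left).obj W) := AmpleDev.isAmple_pullback_finite k α.left hW
  obtain ⟨u, hu⟩ := exists_translate_eq A (c := F (PicF.cl W) α) (d := d) ⟨_, rfl, hV.1⟩ hd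
    ((S12002.result k A _ hV).subset fun a ha => PicMul.cl_eq_iff.1 ha) hinv
  obtain ⟨N, hN, hNi⟩ := PicMul.isInvertibleCl_mul
    (show PicF.IsInvertibleCl (F (PicF.cl W) (tr (u ≫ α))) from PicClLib.isInvertibleCl_pullCl _ ⟨W, rfl, hW.1⟩)
    ⟨W', rfl, hW'i⟩
  refine ⟨N, hNi, fun b => ?_, ?_⟩
  · have hvv : F (PicF.cl W') (tr b) * F (PicF.cl W) (tr b) = 1 := by
      rw [← F_mul, mul_comm (PicF.cl W'), hv]
      exact map_one _
    rw [hN, F_mul, show F (F (PicF.cl W) (tr (u ≫ α))) (tr b) = F (PicF.cl W) (tr b ≫ tr (u ≫ α)) from pull_F _ _ _,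
      tr_comp]
    have hsq := square (A := B) ⟨W, rfl, hW.1⟩ b (u ≫ α)
    refine (IsUnit.mul_left_inj (IsUnit.of_mul_eq_one_right _ hvv)).1 ?_
    calc F (PicF.cl W) (tr (b * (u ≫ α))) * F (PicF.cl W') (tr b) * F (PicF.cl W) (tr b)
        = F (PicF.cl W) (tr (b * (u ≫ α))) * (PicF.cl W * PicF.cl W') := by rw [mul_assoc, hvv, hv]
      _ = F (PicF.cl W) (tr b) * F (PicF.cl W) (tr (u ≫ α)) * PicF.cl W' := by rw [← mul_assoc, hsq]
      _ = F (PicF.cl W) (tr (u ≫ α)) * PicF.cl W' * F (PicF.cl W) (tr b) := by ac_rfl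
  · rw [hN, map_mul, show PicMul.pullHom α.left (F (PicF.cl W) (tr (u ≫ α))) = F (PicF.cl W) (α ≫ tr (u ≫ α)) from
      pull_F _ _ _, ← tr_hom, ← pull_F]
    refine (congrArg (· * _) hu).trans ?_
    rw [mul_assoc, ← F_mul, hv]
    exact (congrArg (d * ·) (map_one _)).trans (mul_one _)

/-- only finitely many invariant classes die on a surjective homomorphism -/
theorem finite_kernel (α : A ⟶ B) [IsMonHom α] [Surjective α.left] :
    Set.Finite {d : PicF.Cl B.left | PicF.IsInvertibleCl d ∧ (∀ b, F d (tr b) = d) ∧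
      PicMul.pullHom α.left d = 1} := by
  haveI : IsIntegral B.left := GeometricallyIntegral.isIntegral_of_subsingleton B.hom
  haveI : IsCommMonObj B := isCommMonObj_of_isProper_of_geometricallyIntegral B
  haveI : IsProper α.left := by
    haveI : IsProper (α.left ≫ B.hom) := by rw [Over.w α]; infer_instance
    exact IsProper.of_comp α.left B.hom
  obtain ⟨W, hW⟩ := AVProj.exists_isAmple (X := B)
  let l := PicF.cl W
  have hli : PicF.IsInvertibleCl l := ⟨W, rfl, hW.1⟩
  obtain ⟨v, hv⟩ := (PicMul.isUnit_of_isInvertibleCl hli).exists_right_inv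
  obtain ⟨r, hr, hcr⟩ := AVPair.exists_inv (PicMul.isInvertibleCl_mul
    (AVPair.isInv_pl (fst A B ≫ α) hli) (AVPair.isInv_pl (snd A B) hli))
  obtain ⟨M, hMd, hM⟩ := PicMul.isInvertibleCl_mul (AVPair.isInv_pl ((fst A B ≫ α) * snd A B) hli) hr
  have slice : ∀ {T : Over (Spec (CommRingCat.of k))} (φ : T ⟶ A ⊗ B),
      F l ((φ ≫ fst A B ≫ α) * (φ ≫ snd A B)) = F l (φ ≫ fst A B ≫ α) * F l (φ ≫ snd A B) ↔
        Triv ((Scheme.Modules.pullback φ.left).obj M) := by
    intro T φ
    have e : PicMul.pullHom φ.left (PicF.cl M) =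
        F l ((φ ≫ fst A B ≫ α) * (φ ≫ snd A B)) * PicMul.pullHom φ.left r := by
      rw [hMd, map_mul, ← MonObj.comp_mul]
      exact congrArg (· * _) (pull_F φ l _)
    have e' : F l (φ ≫ fst A B ≫ α) * F l (φ ≫ snd A B) * PicMul.pullHom φ.left r = 1 := by
      have := congrArg (PicMul.pullHom φ.left) hcr
      rw [map_mul, map_mul, map_one] at this
      refine Eq.trans ?_ this
      exact congrArg (· * _) (congrArg₂ (· * ·) (pull_F φ l (fst A B ≫ α)).symm (pull_F φ l (snd A B)).symm)
    rw [← cl_eq_one_iff]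
    show _ ↔ PicMul.pullHom φ.left (PicF.cl M) = 1
    rw [e]
    exact ⟨fun h => by rw [h, e'], fun h => AVPair.eq_of_mul_inv e' h⟩
  let f := (snd A B).left
  haveI : IsProper f := inferInstanceAs (IsProper (pullback.snd A.hom B.hom))
  haveI : Flat f := inferInstanceAs (Flat (pullback.snd A.hom B.hom))
  haveI : GeometricallyIntegral f := inferInstanceAs (GeometricallyIntegral (pullback.snd A.hom B.hom))
  haveI : IsLocallyNoetherian B.left := LocallyOfFiniteType.isLocallyNoetherian B.hom
  have hE := SeesawGlobal.isClosed_fieldTriv f hM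
  obtain ⟨Z, j, hj, hZr, hZrange⟩ := RedSub.exists_reduced_subscheme B.left hE.isLocallyClosed
  haveI : IsClosedImmersion j := .of_isPreimmersion j (by rw [hZrange]; exact hE)
  let Y : Over (Spec (CommRingCat.of k)) := Over.mk (j ≫ B.hom)
  haveI : IsProper Y.hom := inferInstanceAs (IsProper (j ≫ B.hom))
  haveI : IsReduced Y.left := hZr
  let w : Y ⟶ B := Over.homMk j rfl
  have hY : Triv ((Scheme.Modules.pullback (A ◁ w).left).obj M) := by
    refine AVSeesaw.triv_of_slices A Y _ (PicClLib.isInvertible_pullback _ hM) (fun z hz => ?_) 1 ?_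
    · refine AVSeesaw.triv_fibre_of_points A Y _ (fun a => ?_) z hz
      rw [AVPair.triv_iff]
      show AVPair.pl (lift (𝟙 A) (toUnit A ≫ a)) (AVPair.pl (A ◁ w) (PicF.cl M)) = 1
      rw [AVPair.pl_pl, lift_whiskerLeft, ← AVPair.triv_iff]
      have hmem : (a ≫ w).left (IsLocalRing.closedPoint k) ∈ Set.range j := ⟨_, rfl⟩
      rw [hZrange] at hmem
      refine SeesawGlobal.triv_of_factor
        (pullback.lift (lift (𝟙 A) (toUnit A ≫ a ≫ w)).left A.hom ?_ :
          A.left ⟶ pullback f (a ≫ w).left) ?_ (hmem k (a ≫ w).left rfl)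
      · show _ ≫ (snd A B).left = _
        rw [← Over.comp_left, lift_snd, Over.comp_left]
        rfl
      · rw [pullback.lift_fst, Category.assoc]
    · rw [AVPair.triv_iff]
      show AVPair.pl (lift (1 : Y ⟶ A) (𝟙 Y)) (AVPair.pl (A ◁ w) (PicF.cl M)) = 1
      rw [AVPair.pl_pl, lift_whiskerLeft, ← AVPair.triv_iff, ← slice]
      rw [lift_fst_assoc, lift_snd, Category.id_comp, MonObj.one_comp, _root_.one_mul]
      rw [show F l (1 : Y ⟶ B) = 1 from F_one hli, _root_.one_mul]
  let Y' : Over (Spec (CommRingCat.of k)) := Over.mk (pullback.fst α.left j ≫ A.hom)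
  let v₁ : Y' ⟶ A := Over.homMk (pullback.fst α.left j) rfl
  have hg : pullback.snd α.left j ≫ Y.hom = Y'.hom := by
    show pullback.snd α.left j ≫ j ≫ B.hom = pullback.fst α.left j ≫ A.hom
    rw [← pullback.condition_assoc, Over.w α]
  let π : Y' ⟶ Y := Over.homMk (pullback.snd α.left j) hg
  have hπ : π ≫ w = v₁ ≫ α := by
    ext1
    exact pullback.condition.symm
  have hneg : F l ((v₁ ≫ α)⁻¹) * F l (v₁ ≫ α) = 1 := by
    have h2 : Triv ((Scheme.Modules.pullback (lift v₁⁻¹ (π ≫ w)).left).obj M) := by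
      rw [AVPair.triv_iff]
      have := congrArg (AVPair.pl (lift v₁⁻¹ π)) ((AVPair.triv_iff _).1 hY)
      rwa [AVPair.pl_pl, lift_whiskerLeft, map_one] at this
    rw [← slice, lift_fst_assoc, lift_snd, hπ, GrpObj.inv_comp, inv_mul_cancel, F_one hli] at h2
    exact h2.symm
  haveI hinvB : IsIso ((𝟙 B)⁻¹ : B ⟶ B).left := by
    refine ⟨((𝟙 B)⁻¹ : B ⟶ B).left, ?_, ?_⟩ <;>
      rw [← Over.comp_left, GrpObj.comp_inv, Category.comp_id, _root_.inv_inv, Over.id_left]
  haveI : CompactSpace Y.left := QuasiCompact.compactSpace_of_compactSpace Y.hom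
  letI : B.left.Over (Spec (CommRingCat.of k)) := ⟨B.hom⟩
  haveI : IsProper (B.left ↘ Spec (CommRingCat.of k)) := inferInstanceAs (IsProper B.hom)
  have hL1 : CohB1.IsAmple ((Scheme.Modules.pullback w.left).obj W) := by
    haveI : IsFinite w.left := inferInstanceAs (IsFinite j)
    exact AmpleDev.isAmple_pullback_finite k w.left hW
  have hL2 : CohB1.IsAmple ((Scheme.Modules.pullback (w⁻¹).left).obj W) := by
    haveI : IsFinite (w⁻¹).left := by
      rw [show w⁻¹ = w ≫ (𝟙 B)⁻¹ by rw [GrpObj.comp_inv, Category.comp_id]]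
      exact inferInstanceAs (IsFinite (j ≫ ((𝟙 B)⁻¹ : B ⟶ B).left))
    exact AmpleDev.isAmple_pullback_finite k (w⁻¹).left hW
  haveI : Surjective π.left := inferInstanceAs (Surjective (pullback.snd α.left j))
  haveI : IsProper π.left := inferInstanceAs (IsProper (pullback.snd α.left j))
  haveI : Finite Z := finite_of_pullback_triv (Z := Y.left) Y.hom π.left
    (AmpleX.isAmple_tensor hL1 hL2.1 fun x => (hL2.2.2 x).imp fun n h => h.imp fun s hs => hs.1) (by
    rw [← cl_eq_one_iff]
    show PicMul.pullHom π.left (F l w * F l w⁻¹) = 1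
    rw [map_mul, pull_F, pull_F, GrpObj.comp_inv, hπ, mul_comm, hneg])
  have hfin : Set.Finite {z : B.left | SeesawGlobal.FieldTriv f M z} := by
    rw [← hZrange]
    exact Set.finite_range _
  have hfinu : Set.Finite {u : 𝟙_ (Over (Spec (CommRingCat.of k))) ⟶ B |
      PicMul.pullHom α.left (F l (tr u) * v) = 1} := by
    refine (hfin.preimage (f := fun b : 𝟙_ (Over (Spec (CommRingCat.of k))) ⟶ B =>
      b.left (IsLocalRing.closedPoint k)) ?_).subset fun b hb => ?_
    · intro a _ b _ hab
      apply Over.OverMorphism.ext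
      exact congrArg Subtype.val ((pointEquivClosedPoint B.hom).injective
        (a₁ := ⟨a.left, Over.w a⟩) (a₂ := ⟨b.left, Over.w b⟩) (Subtype.ext hab))
    · refine fieldTriv_of_rational' A hM b ((slice _).1 ?_)
      rw [lift_fst_assoc, lift_snd, Category.id_comp]
      have hb' : F (F l (tr b)) α * F v α = 1 := by rw [← F_mul]; exact hb
      have hvα : F l α * F v α = 1 := by rw [← F_mul, hv]; exact map_one _
      rw [show F l (toUnit A ≫ b) = 1 from F_const hli b, mul_one,
        show α * (toUnit A ≫ b) = α ≫ tr b by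
          show _ = α ≫ (𝟙 B * (toUnit B ≫ b))
          rw [MonObj.comp_mul, Category.comp_id, ← Category.assoc α, toUnit_unique (α ≫ toUnit B) (toUnit A)],
        ← pull_F]
      exact AVPair.eq_of_mul_inv hvα hb'
  refine (hfinu.image fun u => F l (tr u) * v).subset ?_
  rintro d ⟨hd, hinv, hd1⟩
  obtain ⟨u, hu⟩ := exists_translate_eq B (c := l) hli hd
    ((S12002.result k B W hW).subset fun a ha => PicMul.cl_eq_iff.1 ha) hinv
  have hdu : F l (tr u) * v = d := by rw [hu, mul_assoc, hv, mul_one]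
  exact ⟨u, by show PicMul.pullHom α.left _ = 1; rw [hdu]; exact hd1, hdu⟩

end Groth.Agent.AVVanish
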