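import Groth.Agent.CohBC.Rpush
import Groth.Agent.QCoh.RpushStalk
import Groth.Agent.H23.PicMul
import Groth.Agent.ParaFX.FlatDesc
import Groth.Agent.S0927
import Groth.Agent.AmpleVan.Vanish
import Groth.Agent.PPSheaf.FlatPr
import Groth.Agent.PicClLib.Basic
import Groth.Prelude.Def_DCoh4

/-! Higher direct images to the first factor of classes additive under the group law. -/

set_option autoImplicit false
set_option backward.isDefEq.respectTransparency false
set_option linter.style.haveILetI false

universe u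

open CategoryTheory CategoryTheory.Limits AlgebraicGeometry MonoidalCategory CartesianMonoidalCategory
open scoped MonObj

attribute [-instance] CategoryTheory.catToReflQuiver

namespace Groth.Agent.AVVanish

variable {k : Type u} [Field k]

/-- coherent modules on a point are sums of copies of the structure sheaf -/
theorem exists_decomp (M : (Spec (CommRingCat.of k)).Modules) (hM : Coh.IsCoh M) :
    ∃ (n : ℕ) (φ : Fin n → (Coh.structureModule _ ⟶ M)) (ψ : Fin n → (M ⟶ Coh.structureModule _)),
      ∑ j, ψ j ≫ φ j = 𝟙 M ∧ ∀ j, φ j ≫ ψ j = 𝟙 _ := by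
  classical
  haveI : M.IsQuasicoherent := hM.1
  haveI : IsIso (Scheme.Modules.fromTildeΓ (R := CommRingCat.of k) M) := Scheme.Modules.isIso_fromTildeΓ_of_isQuasicoherent (R := CommRingCat.of k) M
  let F := tilde.functor (CommRingCat.of k)
  let V : ModuleCat (CommRingCat.of k) := (moduleSpecΓFunctor (R := CommRingCat.of k)).obj M
  have hfin : Module.Finite Γ(Spec (CommRingCat.of k), ⊤) Γ(M, ⊤) :=
    QCoh.finite_of_isFT hM.1 hM.2 (isAffineOpen_top _)
  haveI : Module.Finite k V := by
    obtain ⟨s, hs⟩ := hfin.fg_top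
    let s' : Finset V := s
    refine ⟨⟨s', top_le_iff.1 fun x _ => ?_⟩⟩
    let x' : Γ(M, ⊤) := x
    have hx : x' ∈ Submodule.span Γ(Spec (CommRingCat.of k), ⊤) (s : Set Γ(M, ⊤)) := hs ▸ Submodule.mem_top
    refine Submodule.span_induction (p := fun (y : Γ(M, ⊤)) _ => (y : V) ∈ Submodule.span k (s' : Set V))
      (fun y hy => Submodule.subset_span hy) (Submodule.zero_mem _)
      (fun _ _ _ _ => Submodule.add_mem _) (fun c y _ hy => ?_) hx
    have : c = (Scheme.ΓSpecIso (CommRingCat.of k)).inv ((Scheme.ΓSpecIso (CommRingCat.of k)).hom c) :=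
      (congr($((Scheme.ΓSpecIso (CommRingCat.of k)).hom_inv_id) c)).symm
    rw [this]
    exact Submodule.smul_mem _ ((Scheme.ΓSpecIso (CommRingCat.of k)).hom c) hy
  let b := Module.finBasis k V
  let e : F.obj V ≅ M := asIso (Scheme.Modules.fromTildeΓ (R := CommRingCat.of k) M)
  refine ⟨_, fun j => F.map (ModuleCat.ofHom (X := CommRingCat.of k) (LinearMap.toSpanSingleton k V (b j))) ≫ e.hom,
    fun j => e.inv ≫ F.map (ModuleCat.ofHom (Y := CommRingCat.of k) (b.coord j)), ?_, fun j => ?_⟩
  · have hsum : ∑ j, ModuleCat.ofHom (Y := CommRingCat.of k) (b.coord j) ≫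
        ModuleCat.ofHom (X := CommRingCat.of k) (LinearMap.toSpanSingleton k V (b j)) = 𝟙 V := by
      ext x
      simp only [ModuleCat.hom_sum, ModuleCat.hom_comp, ModuleCat.hom_id, ModuleCat.hom_ofHom,
        LinearMap.sum_apply, LinearMap.comp_apply, LinearMap.id_apply, LinearMap.toSpanSingleton_apply]
      exact b.sum_repr x
    have := congrArg (fun t => e.inv ≫ F.map t ≫ e.hom) hsum
    simp only [F.map_sum, Preadditive.sum_comp, Preadditive.comp_sum, F.map_comp, F.map_id, Category.id_comp,
      Iso.inv_hom_id, Category.assoc] at this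
    simpa only [Category.assoc] using this
  · rw [Category.assoc, Iso.hom_inv_id_assoc, ← F.map_comp]
    refine (congrArg F.map ?_).trans (F.map_id _)
    ext
    simp

variable (X : Over (Spec (CommRingCat.of k))) [GrpObj X]

theorem isPullback_shear :
    IsPullback μ[X].left (snd X X).left X.hom X.hom := by
  let σ : X ⊗ X ≅ X ⊗ X :=
    { hom := lift μ[X] (snd X X)
      inv := lift (fst X X * (snd X X)⁻¹) (snd X X)
      hom_inv_id := by
        ext
        · simp [← Hom.mul_def, MonObj.comp_mul, GrpObj.comp_inv, MonObj.mul_eq_mul]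
        · simp
      inv_hom_id := by
        ext
        · simp [MonObj.mul_eq_mul, MonObj.comp_mul, _root_.mul_assoc]
        · simp }
  refine (IsPullback.of_hasPullback X.hom X.hom).of_iso ((Over.forget _).mapIso σ).symm (Iso.refl _) (Iso.refl _)
    (Iso.refl _) ?_ ?_ (by simp) (by simp)
  · rw [Iso.refl_hom, Category.comp_id, ← cancel_epi ((Over.forget _).mapIso σ).hom, Iso.symm_hom,
      Iso.hom_inv_id_assoc]
    show σ.hom.left ≫ (fst X X).left = _
    rw [← Over.comp_left, lift_fst]
  · rw [Iso.refl_hom, Category.comp_id, ← cancel_epi ((Over.forget _).mapIso σ).hom, Iso.symm_hom,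
      Iso.hom_inv_id_assoc]
    show σ.hom.left ≫ (snd X X).left = _
    rw [← Over.comp_left, lift_snd]

variable [IsProper X.hom] [GeometricallyIntegral X.hom]

/-- an additive class with some nonzero higher direct image has a nonzero section -/
theorem exists_section_of_additive [Flat X.hom] (L : X.left.Modules) (hL : PicF.IsInvertible L)
    (hΛ : Nonempty ((Scheme.Modules.pullback μ[X].left).obj L ≅
      CohB1.tensorMod ((Scheme.Modules.pullback (fst X X).left).obj L) ((Scheme.Modules.pullback (snd X X).left).obj L)))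
    (a : ℕ) (hne : ¬ IsZero ((Coh.Rpush X.hom a).obj L)) :
    ∃ s : Coh.structureModule X.left ⟶ L, s ≠ 0 := by
  haveI : IsLocallyNoetherian X.left := LocallyOfFiniteType.isLocallyNoetherian X.hom
  let M := (Coh.Rpush X.hom a).obj L
  have hLc : Coh.IsCoh L := AmpleVan.isCoh_invertible hL
  have hM : Coh.IsCoh M :=
    QCoh.isCoh_Rpush_of_finiteness (f := X.hom) hLc a fun A _ _ Y _ _ N hN n => S0002.result A Y N hN n
  obtain ⟨n, φ, ψ, hsum, hid⟩ := exists_decomp M hM
  let P := Scheme.Modules.pullback X.hom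
  let p := (fst X X).left
  let q := (snd X X).left
  let m := μ[X].left
  haveI : IsProper q := inferInstanceAs (IsProper (pullback.snd X.hom X.hom))
  have sq1 : IsPullback p q X.hom X.hom := IsPullback.of_hasPullback X.hom X.hom
  haveI : Flat p := inferInstanceAs (Flat (pullback.fst X.hom X.hom))
  haveI : Flat m := MorphismProperty.of_isPullback (P := @Flat) (isPullback_shear X).flip inferInstance
  haveI := PPSheaf.preservesFiniteLimits_pullback p
  haveI := PPSheaf.preservesFiniteLimits_pullback m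
  haveI := CohBC.isIso_bcQ (f := X.hom) (g := X.hom) (f' := q) (g' := p) sq1 L hLc.1 a
  haveI := CohBC.isIso_bcQ (f := X.hom) (g := X.hom) (f' := q) (g' := m) (isPullback_shear X) L hLc.1 a
  let e1 : P.obj M ≅ (Coh.Rpush q a).obj ((Scheme.Modules.pullback p).obj L) :=
    asIso (CohBC.bcQ X.hom X.hom q p sq1.w a L)
  let e2 : P.obj M ≅ (Coh.Rpush q a).obj ((Scheme.Modules.pullback m).obj L) :=
    asIso (CohBC.bcQ X.hom X.hom q m (isPullback_shear X).w a L)
  obtain ⟨e3⟩ := S0927.result q ((Scheme.Modules.pullback p).obj L) L (ParaFX.FlatDesc.isFinLocFree_of_invertible hL) a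
  obtain ⟨e4⟩ := hΛ
  obtain ⟨e5⟩ := H23.PicMul.comm ((Scheme.Modules.pullback p).obj L) ((Scheme.Modules.pullback q).obj L)
  let T : X.left.Modules ⥤ X.left.Modules := DCoh.tensorBi.obj L
  let e : P.obj M ≅ T.obj (P.obj M) :=
    e2 ≪≫ (Coh.Rpush q a).mapIso (e4 ≪≫ e5) ≪≫ e3.symm ≪≫ (T.mapIso e1).symm
  obtain ⟨u⟩ := H23.PicMul.unit L
  let δ : Coh.structureModule X.left ≅ P.obj (Coh.structureModule (Spec (CommRingCat.of k))) :=
    (PicClLib.nonempty_pullback_structureModule X.hom).some.symm
  haveI : T.Additive := inferInstanceAs ((DCoh.tensorBi (X := X.left)).obj L).Additive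
  haveI : Nonempty X.left := ⟨η[X].left (IsLocalRing.closedPoint k)⟩
  have hn : Nonempty (Fin n) := by
    by_contra h
    rw [not_nonempty_iff] at h
    exact hne (IsZero.iff_id_eq_zero _ |>.2 (by rw [← hsum, Finset.univ_eq_empty, Finset.sum_empty]))
  obtain ⟨j₀⟩ := hn
  by_contra hall
  simp only [not_exists, not_not] at hall
  let w : Coh.structureModule X.left ⟶ T.obj (P.obj M) := δ.hom ≫ P.map (φ j₀) ≫ e.hom
  have hw : w = 0 := by
    have h1 : w ≫ T.map (P.map (∑ j, ψ j ≫ φ j)) = w := by rw [hsum, P.map_id, T.map_id, Category.comp_id]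
    rw [← h1, P.map_sum, T.map_sum, Preadditive.comp_sum]
    refine Finset.sum_eq_zero fun j _ => ?_
    have h2 : (w ≫ T.map (P.map (ψ j) ≫ δ.inv)) ≫ u.hom = 0 := hall _
    rw [← IsIso.eq_comp_inv, zero_comp] at h2
    have h3 : P.map (ψ j ≫ φ j) = (P.map (ψ j) ≫ δ.inv) ≫ (δ.hom ≫ P.map (φ j)) := by
      rw [P.map_comp, Category.assoc, Iso.inv_hom_id_assoc]
    rw [h3, T.map_comp, reassoc_of% h2, zero_comp]
  have h4 : δ.hom ≫ P.map (φ j₀) = 0 := by
    rw [← cancel_mono e.hom, zero_comp, Category.assoc]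
    exact hw
  have h5 : (𝟙 (Coh.structureModule X.left) : _ ⟶ _) = 0 := by
    rw [← δ.hom_inv_id, ← Category.id_comp δ.inv, ← P.map_id, ← hid j₀, P.map_comp, Category.assoc,
      reassoc_of% h4, zero_comp]
  have h6 := congr(($h5).app ⊤ (1 : Γ(X.left, ⊤)))
  haveI : Nonempty ((⊤ : X.left.Opens) : Scheme.{u}) := ⟨⟨Classical.arbitrary X.left, trivial⟩⟩
  exact one_ne_zero (α := Γ(X.left, ⊤)) h6

end Groth.Agent.AVVanish
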